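import Mathlib
import Groth.Agent.H8.MN.IntClGeneral

/-!
# Normal base change of relative integral closures (helper8)

`A → A'` normal homomorphism of Noetherian rings, `B → C` a homomorphism of `A`-algebras.
An element of `A' ⊗[A] C` integral over (the image of) `A' ⊗[A] B` lies in
`A' ⊗[A] (integralClosure B C)` (`mem_range_lTensor_integralClosure_rel`).
-/

set_option autoImplicit false
set_option linter.style.haveILetI false
set_option linter.unusedSectionVars false

open TensorProduct

namespace Groth.Agent.H8.MN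

universe u

section BC2

variable (A : Type u) [CommRing A] (A' : Type u) [CommRing A'] [Algebra A A']
  (C : Type u) [CommRing C] [Algebra A C]
  (X : Type u) [CommRing X] [Algebra A X] [Algebra C X] [IsScalarTower A C X]

theorem bcEquiv_lTensor_mem_range (N : Submodule C X) (w : (C ⊗[A] A') ⊗[C] N) :
    bcEquiv A A' C X (N.subtype.lTensor (C ⊗[A] A') w) ∈
      LinearMap.range ((N.restrictScalars A).subtype.lTensor A') := by
  induction w using TensorProduct.induction_on with
  | zero => simp
  | add a b ha hb =>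
    rw [map_add, map_add]
    exact add_mem ha hb
  | tmul p z =>
    induction p using TensorProduct.induction_on with
    | zero => simp
    | add a b ha hb =>
      rw [TensorProduct.add_tmul, map_add, map_add]
      exact add_mem ha hb
    | tmul r a' =>
      have : bcEquiv A A' C X (N.subtype.lTensor (C ⊗[A] A') ((r ⊗ₜ[A] a') ⊗ₜ[C] z)) =
          a' ⊗ₜ[A] (r • (z : X)) := by
        rw [← bcEquiv_tmul]
        rfl
      rw [this]
      exact ⟨a' ⊗ₜ[A] ⟨r • (z : X), N.smul_mem r z.2⟩, rfl⟩

theorem isIntegral_bcEquiv_symm_of_isIntegralElem (x : A' ⊗[A] X)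
    (hx : (Algebra.TensorProduct.map (AlgHom.id A' A')
      (IsScalarTower.toAlgHom A C X)).toRingHom.IsIntegralElem x) :
    IsIntegral (C ⊗[A] A') ((bcEquiv A A' C X).symm x) := by
  obtain ⟨q, hq, hqx⟩ := hx
  set g := (Algebra.TensorProduct.map (AlgHom.id A' A')
      (IsScalarTower.toAlgHom A C X)).toRingHom with hg
  let κ : A' ⊗[A] C →+* C ⊗[A] A' := (Algebra.TensorProduct.comm A A' C).toRingEquiv.toRingHom
  have hcomp : (algebraMap (C ⊗[A] A') ((C ⊗[A] A') ⊗[C] X)).comp κ =
      (bcEquiv A A' C X).symm.toRingHom.comp g := by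
    refine RingHom.ext (fun t => ?_)
    induction t using TensorProduct.induction_on with
    | zero => simp
    | add a b ha hb => rw [map_add, map_add, ha, hb]
    | tmul a' c =>
      apply (bcEquiv A A' C X).injective
      change (bcEquiv A A' C X) ((c ⊗ₜ[A] a') ⊗ₜ[C] (1 : X)) =
        (bcEquiv A A' C X) ((bcEquiv A A' C X).symm (a' ⊗ₜ[A] (algebraMap C X c)))
      rw [RingEquiv.apply_symm_apply, bcEquiv_tmul, Algebra.algebraMap_eq_smul_one]
  refine ⟨q.map κ, hq.map κ, ?_⟩
  rw [Polynomial.eval₂_map, hcomp]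
  have := Polynomial.hom_eval₂ q g (bcEquiv A A' C X).symm.toRingHom x
  rw [hqx, map_zero] at this
  exact this.symm

end BC2

section Rel

variable (A A' : Type u) [CommRing A] [CommRing A'] [IsNoetherianRing A] [IsNoetherianRing A']
  [Algebra A A']

open Groth.Agent.Lib.Helper50 in
theorem mem_range_lTensor_integralClosure_rel_of_finiteType (h : EGA4.IsNormalHom A A')
    (B₀ : Type u) [CommRing B₀] [Algebra A B₀] [Algebra.FiniteType A B₀]
    (C : Type u) [CommRing C] [Algebra A C] [Algebra B₀ C] [IsScalarTower A B₀ C]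
    (x : A' ⊗[A] C)
    (hx : (Algebra.TensorProduct.map (AlgHom.id A' A')
      (IsScalarTower.toAlgHom A B₀ C)).toRingHom.IsIntegralElem x) :
    x ∈ LinearMap.range
      (((integralClosure B₀ C).toSubmodule.restrictScalars A).subtype.lTensor A') := by
  haveI : IsNoetherianRing B₀ := Algebra.FiniteType.isNoetherianRing A B₀
  haveI : IsNoetherianRing (A' ⊗[A] B₀) := Algebra.FiniteType.isNoetherianRing A' (A' ⊗[A] B₀)
  haveI : IsNoetherianRing (B₀ ⊗[A] A') :=
    isNoetherianRing_of_ringEquiv (A' ⊗[A] B₀) (Algebra.TensorProduct.comm A A' B₀).toRingEquiv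
  have h1 : EGA4.IsNormalHom B₀ (B₀ ⊗[A] A') := isNormalHom_baseChange A A' B₀ h
  have hy := isIntegral_bcEquiv_symm_of_isIntegralElem A A' B₀ C x hx
  obtain ⟨w, hw⟩ := mem_range_lTensor_integralClosure_of_isNormalHom B₀ (B₀ ⊗[A] A') h1 C _ hy
  have hx' : x = bcEquiv A A' B₀ C
      ((integralClosure B₀ C).toSubmodule.subtype.lTensor (B₀ ⊗[A] A') w) := by
    rw [hw, RingEquiv.apply_symm_apply]
  rw [hx']
  exact bcEquiv_lTensor_mem_range A A' B₀ C _ w

theorem mem_range_lTensor_integralClosure_rel (h : EGA4.IsNormalHom A A')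
    (B C : Type u) [CommRing B] [CommRing C] [Algebra A B] [Algebra A C] [Algebra B C]
    [IsScalarTower A B C] (x : A' ⊗[A] C)
    (hx : (Algebra.TensorProduct.map (AlgHom.id A' A')
      (IsScalarTower.toAlgHom A B C)).toRingHom.IsIntegralElem x) :
    x ∈ LinearMap.range
      (((integralClosure B C).toSubmodule.restrictScalars A).subtype.lTensor A') := by
  classical
  obtain ⟨q, hq, hqx⟩ := hx
  obtain ⟨B₀, hB₀, hs⟩ := exists_fg_subset_range_tensor_val A A' B q.coeffs
  haveI : Algebra.FiniteType A B₀ := (Subalgebra.fg_iff_finiteType B₀).1 hB₀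
  let ι : A' ⊗[A] B₀ →+* A' ⊗[A] B :=
    (Algebra.TensorProduct.map (AlgHom.id A' A') B₀.val).toRingHom
  have hlift : q ∈ Polynomial.lifts ι := (Polynomial.lifts_iff_coeffs_subset_range q).2 hs
  obtain ⟨q₀, hq₀map, -, hq₀⟩ := Polynomial.lifts_and_natDegree_eq_and_monic hlift hq
  have hcomp : (Algebra.TensorProduct.map (AlgHom.id A' A')
      (IsScalarTower.toAlgHom A B₀ C)).toRingHom =
      (Algebra.TensorProduct.map (AlgHom.id A' A')
        (IsScalarTower.toAlgHom A B C)).toRingHom.comp ι := by
    have : IsScalarTower.toAlgHom A B₀ C = (IsScalarTower.toAlgHom A B C).comp B₀.val := by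
      ext b; rfl
    rw [this]
    have h2 := Algebra.TensorProduct.map_comp (AlgHom.id A' A') (AlgHom.id A' A')
      (IsScalarTower.toAlgHom A B C) B₀.val
    rw [AlgHom.comp_id] at h2
    rw [h2]
    rfl
  have hx₀ : (Algebra.TensorProduct.map (AlgHom.id A' A')
      (IsScalarTower.toAlgHom A B₀ C)).toRingHom.IsIntegralElem x := by
    refine ⟨q₀, hq₀, ?_⟩
    rw [hcomp, ← Polynomial.eval₂_map, hq₀map]
    exact hqx
  have key := mem_range_lTensor_integralClosure_rel_of_finiteType A A' h B₀ C x hx₀
  refine range_lTensor_mono A' ?_ key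
  intro c hc
  have hc' : IsIntegral B₀ c := hc
  exact hc'.tower_top

end Rel

end Groth.Agent.H8.MN
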